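import Cfsg.Agent.Lib.BenderOne9.NoOffender
import Cfsg.Agent.Lib.Quadratic.Involves
import Cfsg.Prelude.Def_Transfer

/-!
# No offenders in the centraliser of the involutions, for subgroups

The representation statement of `NoOffender.not_offender`, for an elementary abelian subgroup `W`
of a group and subgroups normalising it.
-/

set_option autoImplicit false
set_option linter.unusedSectionVars false
set_option linter.style.haveILetI false

namespace Cfsg.Agent.Lib.BenderOne9.NoOffender

open scoped commutatorElement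

universe u

variable {G : Type u} [Group G] [Finite G] {p : ℕ} [Fact p.Prime]

/-- Automorphisms of an abelian group of exponent `p` as operators. -/
theorem exists_end_of_mulAut {A : Type u} [CommGroup A] [Finite A] (hA : ∀ x : A, x ^ p = 1)
    {Γ : Type*} [Group Γ] (α : Γ →* MulAut A) :
    ∃ (V : Type u) (_ : AddCommGroup V) (_ : Module (ZMod p) V) (_ : Finite V)
      (σ : Γ →* Module.End (ZMod p) V) (τ : V → A), Function.Injective τ ∧ Function.Surjective τ ∧
        (∀ v w, τ (v + w) = τ v * τ w) ∧ τ 0 = 1 ∧ ∀ h v, τ (σ h v) = α h (τ v) := by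
  haveI : Module (ZMod p) (Additive A) :=
    AddCommGroup.zmodModule fun x => Additive.toMul.injective (by simpa using hA x.toMul)
  let T : Γ →* Module.End (ZMod p) (Additive A) :=
    { toFun := fun h =>
        { toFun := fun x => Additive.ofMul (α h x.toMul)
          map_add' := fun x y => by simp
          map_smul' := fun c x => ZMod.map_smul (MonoidHom.toAdditive (α h).toMonoidHom) c x }
      map_one' := LinearMap.ext fun x => by simp
      map_mul' := fun g h => LinearMap.ext fun x => by simp; rfl }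
  exact ⟨Additive A, inferInstance, inferInstance, inferInstance, T, fun v => v.toMul,
    Additive.toMul.injective, Additive.toMul.surjective, fun v w => rfl, rfl, fun h v => rfl⟩

/-- The action by conjugation as operators on an elementary abelian subgroup. -/
theorem exists_conjEnd {W H : Subgroup G} (hW : Cfsg.IsElementaryAbelian p W)
    (hH : H ≤ Subgroup.normalizer (W : Set G)) :
    ∃ (V : Type u) (_ : AddCommGroup V) (_ : Module (ZMod p) V) (_ : Finite V)
      (σ : H →* Module.End (ZMod p) V) (τ : V → G), Function.Injective τ ∧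
        Set.range τ = (W : Set G) ∧ (∀ v w, τ (v + w) = τ v * τ w) ∧ τ 0 = 1 ∧
        ∀ (h : H) v, τ (σ h v) = (h : G) * τ v * (h : G)⁻¹ := by
  classical
  letI : CommGroup W := { (inferInstance : Group W) with mul_comm := hW.1.1.comm }
  let c : H →* MulAut W :=
    { toFun := fun h =>
        { toFun := fun x => ⟨(h : G) * x * (h : G)⁻¹,
            (Subgroup.mem_normalizer_iff.1 (hH h.2) _).1 x.2⟩
          invFun := fun x => ⟨(h : G)⁻¹ * x * (h : G),
            (Subgroup.mem_normalizer_iff''.1 (hH h.2) _).1 x.2⟩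
          left_inv := fun x => Subtype.ext (by simp [mul_assoc])
          right_inv := fun x => Subtype.ext (by simp [mul_assoc])
          map_mul' := fun x y => Subtype.ext (by simp [mul_assoc]) }
      map_one' := MulEquiv.ext fun x => Subtype.ext (by simp)
      map_mul' := fun g h => MulEquiv.ext fun x => Subtype.ext (by simp [mul_assoc]) }
  obtain ⟨V, i1, i2, i3, σ, τ, hτ, hsurj, hadd, hzero, hact⟩ :=
    exists_end_of_mulAut (p := p) (fun x : W => Subtype.ext (by simpa using hW.2 _ x.2)) c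
  refine ⟨V, i1, i2, i3, σ, fun v => (τ v : G), fun v w h => hτ (Subtype.ext h), ?_,
    fun v w => congrArg Subtype.val (hadd v w), congrArg Subtype.val hzero,
    fun h v => (congrArg Subtype.val (hact h v)).trans rfl⟩
  ext x
  constructor
  · rintro ⟨v, rfl⟩
    exact (τ v).2
  · intro hx
    obtain ⟨v, hv⟩ := hsurj ⟨x, hx⟩
    exact ⟨v, congrArg Subtype.val hv⟩

/-- No quadratic offender on `W` centralises the involutions of `H` on `W`. -/
theorem not_offender_subgroup (hp : p ≠ 2) {W H C E B : Subgroup G}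
    (hW : Cfsg.IsElementaryAbelian p W) (hH : H ≤ Subgroup.normalizer (W : Set G))
    (hirr : ∀ U : Subgroup G, U ≤ W → H ≤ Subgroup.normalizer (U : Set G) → U = ⊥ ∨ U = W)
    (hCH : C ≤ H) (hCn : ∀ h ∈ H, ∀ c ∈ C, h * c * h⁻¹ ∈ C) (hEH : E ≤ H)
    (hEC : ∀ e ∈ E, ∀ c ∈ C, ⁅e, c⁆ ∈ Subgroup.centralizer (W : Set G))
    (hE2 : ∀ e ∈ E, e * e ∈ Subgroup.centralizer (W : Set G))
    (hcomm : ∀ S : Subgroup G, S ≤ C → IsPGroup 2 S → ∀ s ∈ S, ∀ t ∈ S,
      ∃ e ∈ E, ⁅s, t⁆ * e⁻¹ ∈ Subgroup.centralizer (W : Set G))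
    (hconj : ∀ e ∈ E, ∀ f ∈ E, e ∉ Subgroup.centralizer (W : Set G) →
      f ∉ Subgroup.centralizer (W : Set G) →
        ∃ h ∈ H, h * e * h⁻¹ * f⁻¹ ∈ Subgroup.centralizer (W : Set G))
    (hrank : ∃ e ∈ E, ∃ f ∈ E, e ∉ Subgroup.centralizer (W : Set G) ∧
      f ∉ Subgroup.centralizer (W : Set G) ∧ e * f⁻¹ ∉ Subgroup.centralizer (W : Set G))
    (hBC : B ≤ C) (hquad : ∀ w ∈ W, ∀ b ∈ B, ∀ b' ∈ B, ⁅⁅w, b⁆, b'⁆ = 1)
    (hne : ¬ B ≤ Subgroup.centralizer (W : Set G))
    (hoff : Nat.card W * Nat.card (B ⊓ Subgroup.centralizer (W : Set G) : Subgroup G) ≤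
      Nat.card B * Nat.card (W ⊓ Subgroup.centralizer (B : Set G) : Subgroup G)) : False := by
  classical
  obtain ⟨V, i1, i2, i3, σ, τ, hτ, hrange, hadd, hzero, hact⟩ := exists_conjEnd hW hH
  have hker : ∀ h : H, σ h = 1 ↔ (h : G) ∈ Subgroup.centralizer (W : Set G) := by
    intro h
    rw [Subgroup.mem_centralizer_iff]
    constructor
    · intro hh w hw
      obtain ⟨v, rfl⟩ := (hrange.symm ▸ hw : w ∈ Set.range τ)
      have := hact h v
      rw [hh, Module.End.one_apply] at this
      exact (mul_inv_eq_iff_eq_mul.1 this.symm).symm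
    · intro hh
      refine LinearMap.ext fun v => hτ ?_
      rw [hact, Module.End.one_apply, ← hh _ (hrange ▸ ⟨v, rfl⟩ : τ v ∈ (W : Set G)),
        mul_inv_cancel_right]
  have hker' : ∀ a b : H, σ a = σ b ↔ (a : G) * (b : G)⁻¹ ∈ Subgroup.centralizer (W : Set G) := by
    intro a b
    rw [← Subgroup.coe_inv, ← Subgroup.coe_mul, ← hker, map_mul]
    constructor
    · intro h
      rw [h, ← map_mul, mul_inv_cancel, map_one]
    · intro h
      calc σ a = σ a * (σ b⁻¹ * σ b) := by rw [← map_mul, inv_mul_cancel, map_one, mul_one]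
        _ = σ b := by rw [← mul_assoc, h, one_mul]
  have hneg : ∀ v, τ (-v) = (τ v)⁻¹ := fun v => eq_inv_of_mul_eq_one_left (by
    rw [← hadd, neg_add_cancel, hzero])
  have hsub : ∀ (h : H) v, τ (σ h v - v) = (h : G) * τ v * (h : G)⁻¹ * (τ v)⁻¹ := fun h v => by
    rw [sub_eq_add_neg, hadd, hneg, hact]
  haveI : (C.subgroupOf H).Normal :=
    ⟨fun c hc h => Subgroup.mem_subgroupOf.2 (hCn _ h.2 _ (Subgroup.mem_subgroupOf.1 hc))⟩
  have lift : ∀ {X : Subgroup G}, X ≤ H → ∀ x ∈ X, ∃ y ∈ X.subgroupOf H, (y : G) = x :=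
    fun hX x hx => ⟨⟨x, hX hx⟩, Subgroup.mem_subgroupOf.2 hx, rfl⟩
  have hBH : B ≤ H := hBC.trans hCH
  refine not_offender (σ := σ) (C := C.subgroupOf H) (E := E.subgroupOf H) (B := B.subgroupOf H)
    hp ?_ ?_ ?_ (fun b hb => Subgroup.mem_subgroupOf.2 (hBC (Subgroup.mem_subgroupOf.1 hb))) ?_
    ?_ ?_ ?_ ?_ ?_
  · intro e he c hc
    rw [hker']
    simpa [commutatorElement_def, mul_assoc] using
      hEC _ (Subgroup.mem_subgroupOf.1 he) _ (Subgroup.mem_subgroupOf.1 hc)
  · intro e he
    rw [hker]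
    exact hE2 _ (Subgroup.mem_subgroupOf.1 he)
  · intro S hS hS2 s hs t ht
    obtain ⟨e, he, hst⟩ := hcomm (S.map H.subtype)
      (by rintro _ ⟨x, hx, rfl⟩; exact Subgroup.mem_subgroupOf.1 (hS hx)) (hS2.map _)
      s (Subgroup.mem_map_of_mem _ hs) t (Subgroup.mem_map_of_mem _ ht)
    obtain ⟨y, hy, hye⟩ := lift hEH e he
    refine ⟨y, hy, (hker' _ _).2 ?_⟩
    rw [hye]
    exact hst
  · intro b hb b' hb'
    refine LinearMap.ext fun v => hτ ?_
    have hw : τ v ∈ W := by
      show τ v ∈ (W : Set G)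
      rw [← hrange]
      exact ⟨v, rfl⟩
    have h := hquad _ hw _ (Subgroup.mem_subgroupOf.1 hb') _ (Subgroup.mem_subgroupOf.1 hb)
    rw [commutatorElement_eq_one_iff_mul_comm] at h
    simp only [Module.End.mul_apply, LinearMap.sub_apply, Module.End.one_apply,
      LinearMap.zero_apply, hzero]
    rw [hsub, hsub, show ((b' : G) * τ v * (b' : G)⁻¹ * (τ v)⁻¹) = ⁅τ v, (b' : G)⁆⁻¹ by
      rw [commutatorElement_def]; group, mul_inv_eq_one, mul_inv_eq_iff_eq_mul]
    exact (Commute.inv_left h).eq.symm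
  · intro S hS
    have hnorm : H ≤ Subgroup.normalizer
        ((W ⊓ Subgroup.closure (τ '' (S : Set V)) : Subgroup G) : Set G) := by
      intro h hh
      rw [Subgroup.mem_normalizer_iff]
      have key : ∀ k : H, ∀ x ∈ W ⊓ Subgroup.closure (τ '' (S : Set V)),
          (k : G) * x * (k : G)⁻¹ ∈ W ⊓ Subgroup.closure (τ '' (S : Set V)) := by
        rintro k x ⟨hxW, hx⟩
        refine ⟨(Subgroup.mem_normalizer_iff.1 (hH k.2) _).1 hxW, ?_⟩
        clear hxW
        induction hx using Subgroup.closure_induction with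
        | mem x hx =>
          obtain ⟨v, hv, rfl⟩ := hx
          rw [← hact]
          exact Subgroup.subset_closure ⟨_, hS k trivial v hv, rfl⟩
        | one => simp
        | mul x y _ _ hx hy =>
          rw [show (k : G) * (x * y) * (k : G)⁻¹ =
            (k : G) * x * (k : G)⁻¹ * ((k : G) * y * (k : G)⁻¹) by group]
          exact mul_mem hx hy
        | inv x _ hx =>
          rw [show (k : G) * x⁻¹ * (k : G)⁻¹ = ((k : G) * x * (k : G)⁻¹)⁻¹ by group]
          exact Subgroup.inv_mem _ hx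
      intro x
      refine ⟨key ⟨h, hh⟩ x, fun hx => ?_⟩
      have := key (⟨h, hh⟩⁻¹ : H) _ hx
      simpa [mul_assoc] using this
    rcases hirr (W ⊓ Subgroup.closure (τ '' (S : Set V))) inf_le_left hnorm with h | h
    · left
      rw [Submodule.eq_bot_iff]
      intro v hv
      apply hτ
      rw [hzero]
      have : τ v ∈ W ⊓ Subgroup.closure (τ '' (S : Set V)) :=
        ⟨show τ v ∈ (W : Set G) from hrange ▸ ⟨v, rfl⟩,
          Subgroup.subset_closure ⟨v, hv, rfl⟩⟩
      rwa [h, Subgroup.mem_bot] at this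
    · right
      rw [eq_top_iff]
      intro v _
      have hv : τ v ∈ Subgroup.closure (τ '' (S : Set V)) :=
        (h.ge (show τ v ∈ (W : Set G) from hrange ▸ ⟨v, rfl⟩)).2
      have hmem : ∀ x ∈ Subgroup.closure (τ '' (S : Set V)), ∃ y ∈ S, τ y = x := by
        intro x hx
        induction hx using Subgroup.closure_induction with
        | mem x hx => exact hx
        | one => exact ⟨0, S.zero_mem, hzero⟩
        | mul x y _ _ hx hy =>
          obtain ⟨a, ha, rfl⟩ := hx
          obtain ⟨b, hb, rfl⟩ := hy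
          exact ⟨a + b, S.add_mem ha hb, hadd a b⟩
        | inv x _ hx =>
          obtain ⟨a, ha, rfl⟩ := hx
          exact ⟨-a, S.neg_mem ha, hneg a⟩
      obtain ⟨y, hy, hyv⟩ := hmem _ hv
      exact hτ hyv ▸ hy
  · intro e he f hf he1 hf1
    rw [ne_eq, hker] at he1 hf1
    obtain ⟨h, hh, hhef⟩ :=
      hconj _ (Subgroup.mem_subgroupOf.1 he) _ (Subgroup.mem_subgroupOf.1 hf) he1 hf1
    exact ⟨⟨h, hh⟩, (hker' _ _).2 hhef⟩
  · obtain ⟨e, he, f, hf, h1, h2, h3⟩ := hrank
    obtain ⟨e', he', rfl⟩ := lift hEH e he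
    obtain ⟨f', hf', rfl⟩ := lift hEH f hf
    exact ⟨e', he', f', hf', mt (hker e').1 h1, mt (hker f').1 h2, mt (hker' e' f').1 h3⟩
  · obtain ⟨b, hb, hbW⟩ := SetLike.not_le_iff_exists.1 hne
    obtain ⟨b', hb', rfl⟩ := lift hBH b hb
    exact ⟨b', hb', mt (hker b').1 hbW⟩
  · -- translate the cardinalities
    have hVW : Nat.card V = Nat.card W :=
      (Nat.card_range_of_injective hτ).symm.trans (by rw [hrange]; rfl)
    have hfix : Nat.card (fixSpace σ (B.subgroupOf H)) =
        Nat.card (W ⊓ Subgroup.centralizer (B : Set G) : Subgroup G) := by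
      have hmem : ∀ v, v ∈ fixSpace σ (B.subgroupOf H) ↔
          τ v ∈ W ⊓ Subgroup.centralizer (B : Set G) := by
        intro v
        rw [Subgroup.mem_inf, Subgroup.mem_centralizer_iff]
        constructor
        · intro hv
          refine ⟨show τ v ∈ (W : Set G) from hrange ▸ ⟨v, rfl⟩, fun b hb => ?_⟩
          obtain ⟨b', hb', rfl⟩ := lift hBH b hb
          have := hact b' v
          rw [hv b' hb'] at this
          exact (mul_inv_eq_iff_eq_mul.1 this.symm)
        · intro hv b hb
          apply hτ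
          rw [hact, hv.2 _ (Subgroup.mem_subgroupOf.1 hb), mul_inv_cancel_right]
      refine Nat.card_congr (Equiv.ofBijective
        (fun v : fixSpace σ (B.subgroupOf H) => (⟨τ v, (hmem v).1 v.2⟩ :
          (W ⊓ Subgroup.centralizer (B : Set G) : Subgroup G))) ⟨?_, ?_⟩)
      · exact fun a b h => Subtype.ext (hτ (congrArg Subtype.val h))
      · rintro ⟨x, hx⟩
        obtain ⟨v, rfl⟩ := (hrange.symm ▸ hx.1 : x ∈ Set.range τ)
        exact ⟨⟨v, (hmem v).2 hx⟩, rfl⟩
    have himg : Nat.card (σ '' (B.subgroupOf H : Set H)) *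
        Nat.card (B ⊓ Subgroup.centralizer (W : Set G) : Subgroup G) = Nat.card B := by
      let f : B →* Module.End (ZMod p) V := σ.comp (Subgroup.inclusion hBH)
      have hfr : Set.range f = σ '' (B.subgroupOf H : Set H) := by
        ext x
        constructor
        · rintro ⟨b, rfl⟩
          exact ⟨Subgroup.inclusion hBH b, Subgroup.mem_subgroupOf.2 b.2, rfl⟩
        · rintro ⟨y, hy, rfl⟩
          exact ⟨⟨y, Subgroup.mem_subgroupOf.1 hy⟩, rfl⟩
      have hk : f.ker = (B ⊓ Subgroup.centralizer (W : Set G) : Subgroup G).subgroupOf B := by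
        ext b
        rw [MonoidHom.mem_ker, Subgroup.mem_subgroupOf, Subgroup.mem_inf]
        exact (hker _).trans ⟨fun h => ⟨b.2, h⟩, fun h => h.2⟩
      have hk' : f.toHomUnits.ker = f.ker := by
        ext b
        rw [MonoidHom.mem_ker, MonoidHom.mem_ker, ← Units.val_inj]
        rfl
      have hr' : Nat.card f.toHomUnits.range = Nat.card (Set.range f) := by
        refine Nat.card_congr (Equiv.ofBijective (fun x : f.toHomUnits.range =>
          (⟨((x : (Module.End (ZMod p) V)ˣ) : Module.End (ZMod p) V), ?_⟩ : Set.range f))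
          ⟨fun a b h => Subtype.ext (Units.ext (congrArg Subtype.val h)), ?_⟩)
        · obtain ⟨_, b, rfl⟩ := x
          exact ⟨b, rfl⟩
        · rintro ⟨_, b, rfl⟩
          exact ⟨⟨f.toHomUnits b, b, rfl⟩, rfl⟩
      have h1 := Subgroup.card_eq_card_quotient_mul_card_subgroup f.toHomUnits.ker
      rw [Nat.card_congr (QuotientGroup.quotientKerEquivRange f.toHomUnits).toEquiv, hr', hk', hk,
        Nat.card_congr (Subgroup.subgroupOfEquivOfLe inf_le_left).toEquiv] at h1
      rw [h1, ← hfr]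
    rw [hVW, hfix]
    refine Nat.le_of_mul_le_mul_right (hoff.trans (le_of_eq ?_)) (Nat.card_pos
      (α := (B ⊓ Subgroup.centralizer (W : Set G) : Subgroup G)))
    rw [← himg]
    ring

end Cfsg.Agent.Lib.BenderOne9.NoOffender
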