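import Cfsg.Agent.Lib.Quadratic.Pair
import Cfsg.Agent.Lib.Linear.SL2Sylow2
import Cfsg.Agent.Lib.Involutions.BaerSuzuki
import Mathlib.LinearAlgebra.Matrix.ToLin
import Mathlib.LinearAlgebra.FreeModule.Finite.Basic
import Mathlib.LinearAlgebra.FiniteDimensional.Basic

/-!
# No offenders in the centraliser of the involutions

`C` a normal subgroup of a group acting irreducibly on a module over `GF(p)`, `p` odd, and `E` a
group of commuting involutory operators centralised by `C`, all conjugate, containing the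
commutators of the 2-subgroups of `C`, of rank at least two. Then `C` contains no quadratic
offender.
-/

set_option autoImplicit false
set_option linter.unusedSectionVars false
set_option linter.style.haveILetI false

namespace Cfsg.Agent.Lib.BenderOne9.NoOffender

open Cfsg.Agent.Lib.Quadratic
open scoped commutatorElement Matrix

variable {p : ℕ} [Fact p.Prime] {V : Type*} [AddCommGroup V] [Module (ZMod p) V] [Finite V]
  {Γ : Type*} [Group Γ] (σ : Γ →* Module.End (ZMod p) V)

/-- The subgroup `C` leaves `F` invariant. -/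
def Inv (C : Subgroup Γ) (F : Submodule (ZMod p) V) : Prop := ∀ c ∈ C, ∀ v ∈ F, σ c v ∈ F

/-- `F` is a minimal non-zero invariant submodule. -/
def IsMinInv (C : Subgroup Γ) (F : Submodule (ZMod p) V) : Prop :=
  F ≠ ⊥ ∧ Inv σ C F ∧ ∀ F' : Submodule (ZMod p) V, F' ≤ F → Inv σ C F' → F' = ⊥ ∨ F' = F

/-- The common fixed space of `B`. -/
def fixSpace (B : Subgroup Γ) : Submodule (ZMod p) V where
  carrier := {v | ∀ b ∈ B, σ b v = v}
  add_mem' {u v} hu hv b hb := by simp only [map_add, hu b hb, hv b hb]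
  zero_mem' b _ := by simp
  smul_mem' c v hv b hb := by simp only [map_smul, hv b hb]

/-- The space inverted by `e`. -/
def negSpace (e : Γ) : Submodule (ZMod p) V := LinearMap.ker (σ e + 1)

variable {σ}

theorem mem_negSpace {e : Γ} {v : V} : v ∈ negSpace σ e ↔ σ e v = -v := by
  simp only [negSpace, LinearMap.mem_ker, LinearMap.add_apply, Module.End.one_apply]
  exact add_eq_zero_iff_eq_neg

theorem apply_mul (g h : Γ) (v : V) : σ (g * h) v = σ g (σ h v) := by
  rw [map_mul, Module.End.mul_apply]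

theorem apply_inv_apply (g : Γ) (v : V) : σ g (σ g⁻¹ v) = v := by
  rw [← apply_mul, mul_inv_cancel, map_one, Module.End.one_apply]

theorem inv_apply_apply (g : Γ) (v : V) : σ g⁻¹ (σ g v) = v := by
  rw [← apply_mul, inv_mul_cancel, map_one, Module.End.one_apply]

theorem Inv.mono {C D : Subgroup Γ} {F : Submodule (ZMod p) V} (h : Inv σ C F) (hD : D ≤ C) :
    Inv σ D F := fun c hc => h c (hD hc)

theorem Inv.inf {C : Subgroup Γ} {F F' : Submodule (ZMod p) V} (h : Inv σ C F) (h' : Inv σ C F') :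
    Inv σ C (F ⊓ F') := fun c hc v hv => ⟨h c hc v hv.1, h' c hc v hv.2⟩

theorem Inv.sup {C : Subgroup Γ} {F F' : Submodule (ZMod p) V} (h : Inv σ C F) (h' : Inv σ C F') :
    Inv σ C (F ⊔ F') := by
  intro c hc v hv
  obtain ⟨x, hx, y, hy, rfl⟩ := Submodule.mem_sup.1 hv
  rw [map_add]
  exact Submodule.add_mem_sup (h c hc x hx) (h' c hc y hy)

theorem inv_finset_sup {C : Subgroup Γ} {s : Finset (Submodule (ZMod p) V)}
    (hs : ∀ F ∈ s, Inv σ C F) : Inv σ C (s.sup id) := by
  refine Finset.sup_induction ?_ (fun a ha b hb => ha.sup hb) hs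
  intro c _ v hv
  rw [Submodule.mem_bot] at hv
  simp [hv]

/-- Operators commuting with `C` have invariant eigenspaces. -/
theorem inv_negSpace {C : Subgroup Γ} {e : Γ} (he : ∀ c ∈ C, σ (e * c) = σ (c * e)) :
    Inv σ C (negSpace σ e) := by
  intro c hc v hv
  rw [mem_negSpace] at hv ⊢
  rw [← apply_mul, he c hc, apply_mul, hv, map_neg]

variable [Finite Γ]

theorem IsMinInv.map {C : Subgroup Γ} [hC : C.Normal] {F : Submodule (ZMod p) V}
    (h : IsMinInv σ C F) (g : Γ) : IsMinInv σ C (F.map (σ g)) := by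
  obtain ⟨h0, hinv, hmin⟩ := h
  have key : ∀ (g : Γ) (F' : Submodule (ZMod p) V), Inv σ C F' → Inv σ C (F'.map (σ g)) := by
    rintro g F' hF' c hc _ ⟨v, hv, rfl⟩
    refine ⟨σ (g⁻¹ * c * g) v, hF' _ (hC.conj_mem' c hc g) v hv, ?_⟩
    rw [← apply_mul, ← apply_mul]
    congr 2
    group
  refine ⟨fun hb => h0 ?_, key g F hinv, fun F' hle hF' => ?_⟩
  · rw [Submodule.eq_bot_iff] at hb ⊢
    intro v hv
    have := congrArg (σ g⁻¹) (hb _ (Submodule.mem_map_of_mem hv))
    rwa [inv_apply_apply, map_zero] at this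
  · have hback : (F'.map (σ g⁻¹)).map (σ g) = F' := by
      rw [← Submodule.map_comp, show (σ g).comp (σ g⁻¹) = LinearMap.id from
        LinearMap.ext fun v => apply_inv_apply g v, Submodule.map_id]
    have hle' : F'.map (σ g⁻¹) ≤ F := by
      rintro _ ⟨v, hv, rfl⟩
      obtain ⟨w, hw, rfl⟩ := hle hv
      rwa [inv_apply_apply]
    rcases hmin _ hle' (key g⁻¹ F' hF') with h | h
    · left; rw [← hback, h, Submodule.map_bot]
    · right; rw [← hback, h]

/-- A non-zero invariant submodule contains a minimal one. -/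
theorem exists_isMinInv {C : Subgroup Γ} {S : Submodule (ZMod p) V} (hS : Inv σ C S)
    (h0 : S ≠ ⊥) : ∃ F, IsMinInv σ C F ∧ F ≤ S := by
  haveI : Finite (Submodule (ZMod p) V) := Finite.of_injective _ SetLike.coe_injective
  obtain ⟨F, ⟨hF0, hF, hFS⟩, hmin⟩ := wellFounded_lt.has_min
    {F : Submodule (ZMod p) V | F ≠ ⊥ ∧ Inv σ C F ∧ F ≤ S} ⟨S, h0, hS, le_rfl⟩
  refine ⟨F, ⟨hF0, hF, fun F' hle hF' => ?_⟩, hFS⟩
  by_contra hc
  push Not at hc
  exact hmin F' ⟨hc.1, hF', hle.trans hFS⟩ (lt_of_le_of_ne hle hc.2)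

/-- The minimal invariant submodules of a normal subgroup give a direct decomposition. -/
theorem exists_decomposition (C : Subgroup Γ) [C.Normal]
    (hirr : ∀ S : Submodule (ZMod p) V, Inv σ ⊤ S → S = ⊥ ∨ S = ⊤) :
    ∃ t : Finset (Submodule (ZMod p) V), (∀ F ∈ t, IsMinInv σ C F) ∧ t.sup id = ⊤ ∧
      ∀ F ∈ t, F ⊓ (t.erase F).sup id = ⊥ := by
  classical
  haveI : Finite (Submodule (ZMod p) V) := Finite.of_injective _ SetLike.coe_injective
  let _ := Fintype.ofFinite (Submodule (ZMod p) V)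
  set P : Finset (Submodule (ZMod p) V) → Prop :=
    fun t => (∀ F ∈ t, IsMinInv σ C F) ∧ t.sup id = ⊤
  have hex : ∃ t, P t := by
    refine ⟨Finset.univ.filter (IsMinInv σ C), fun F hF => (Finset.mem_filter.1 hF).2, ?_⟩
    rcases subsingleton_or_nontrivial V with hV | hV
    · exact Subsingleton.elim _ _
    have hinvS : Inv σ ⊤ ((Finset.univ.filter (IsMinInv σ C)).sup id) := by
      intro g _ v hv
      have hle : (Finset.univ.filter (IsMinInv σ C)).sup id ≤
          ((Finset.univ.filter (IsMinInv σ C)).sup id).comap (σ g) := by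
        refine Finset.sup_le fun F hF => ?_
        rw [← Submodule.map_le_iff_le_comap]
        exact Finset.le_sup (f := id) (Finset.mem_filter.2
          ⟨Finset.mem_univ _, (Finset.mem_filter.1 hF).2.map g⟩)
      exact hle hv
    refine (hirr _ hinvS).resolve_left fun hbot => ?_
    have htopinv : Inv σ C (⊤ : Submodule (ZMod p) V) := fun _ _ _ _ => Submodule.mem_top
    obtain ⟨F, hF⟩ := exists_isMinInv htopinv top_ne_bot
    have := Finset.le_sup (f := id) (Finset.mem_filter.2 ⟨Finset.mem_univ F, hF.1⟩)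
    rw [hbot] at this
    exact hF.1.1 (le_bot_iff.1 this)
  obtain ⟨m, hm⟩ : ∃ m, ∃ t, P t ∧ t.card = m := by
    obtain ⟨t, ht⟩ := hex; exact ⟨_, t, ht, rfl⟩
  obtain ⟨t, ⟨ht, htop⟩, hmin⟩ := Nat.sInf_mem (s := {m | ∃ t, P t ∧ t.card = m}) ⟨m, hm⟩
  refine ⟨t, ht, htop, fun F hF => ?_⟩
  rcases (ht F hF).2.2 (F ⊓ (t.erase F).sup id) inf_le_left
      ((ht F hF).2.1.inf (inv_finset_sup fun F' hF' => (ht F' (Finset.mem_of_mem_erase hF')).2.1))
      with h | h
  · exact h
  · exfalso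
    have hle : F ≤ (t.erase F).sup id := inf_eq_left.1 h
    have hP : P (t.erase F) := by
      refine ⟨fun F' hF' => ht F' (Finset.mem_of_mem_erase hF'), top_le_iff.1 ?_⟩
      rw [← htop, ← Finset.insert_erase hF, Finset.sup_insert, Finset.erase_insert
        (Finset.notMem_erase F t)]
      exact sup_le hle le_rfl
    have := Nat.sInf_le (s := {m | ∃ t, P t ∧ t.card = m}) ⟨_, hP, rfl⟩
    rw [← hmin, Finset.card_erase_of_mem hF] at this
    have := Finset.card_pos.2 ⟨F, hF⟩
    omega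

section Neg

variable {C E : Subgroup Γ}

/-- Two non-commuting elements in every Sylow 2-subgroup of `SL(2,p)`. -/
theorem exists_noncomm (hp : p ≠ 2)
    (T : Sylow 2 (Matrix.SpecialLinearGroup (Fin 2) (ZMod p))) :
    ∃ a ∈ (T : Subgroup (Matrix.SpecialLinearGroup (Fin 2) (ZMod p))),
      ∃ b ∈ (T : Subgroup (Matrix.SpecialLinearGroup (Fin 2) (ZMod p))), a * b ≠ b * a := by
  haveI : Fact (Nat.Prime 2) := ⟨Nat.prime_two⟩
  obtain ⟨k, hk, ⟨e⟩⟩ := Linear.sylow_two_SL2_quaternion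
    (by rw [ZMod.card]; exact (Fact.out : p.Prime).odd_of_ne_two hp) T
  refine ⟨_, (e.symm (QuaternionGroup.a 1)).2, _, (e.symm (QuaternionGroup.xa 0)).2, fun h => ?_⟩
  have h0 := congrArg e (Subtype.ext (a1 := e.symm (QuaternionGroup.a 1) *
    e.symm (QuaternionGroup.xa 0)) (a2 := e.symm (QuaternionGroup.xa 0) *
    e.symm (QuaternionGroup.a 1)) h)
  simp only [map_mul, e.apply_symm_apply, QuaternionGroup.a_mul_xa, QuaternionGroup.xa_mul_a,
    QuaternionGroup.xa.injEq, zero_sub, zero_add] at h0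
  have h4 : ((2 : ℕ) : ZMod (2 * 2 ^ k)) = 0 := by push_cast; linear_combination -h0
  rw [ZMod.natCast_eq_zero_iff] at h4
  have := Nat.le_of_dvd (by norm_num) h4
  have : 2 ≤ 2 ^ k := Nat.le_self_pow (by omega) 2
  omega

/-- A quadratic element which is not trivial on an irreducible constituent, with one of its
conjugates, generates an element acting there as `-1`. -/
theorem exists_neg (hp : p ≠ 2) [C.Normal]
    (hEC : ∀ e ∈ E, ∀ c ∈ C, σ (e * c) = σ (c * e)) (hE2 : ∀ e ∈ E, σ (e * e) = 1)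
    (hcomm : ∀ S : Subgroup Γ, S ≤ C → IsPGroup 2 S → ∀ s ∈ S, ∀ t ∈ S,
      ∃ e ∈ E, σ ⁅s, t⁆ = σ e)
    {F : Submodule (ZMod p) V} (hF : IsMinInv σ C F) {u : Γ} (hu : u ∈ C)
    (hq : (σ u - 1) * (σ u - 1) = 0) (hne : ∃ v ∈ F, σ u v ≠ v) :
    ∃ g ∈ C, ∃ c ∈ Subgroup.closure ({u, g * u * g⁻¹} : Set Γ), ∃ e ∈ E,
      σ c = σ e ∧ ∀ v ∈ F, σ e v = -v := by
  classical
  obtain ⟨hF0, hFinv, hFmin⟩ := hF
  haveI : Module.Finite (ZMod p) F := Module.Finite.of_finite
  let r : C →* Module.End (ZMod p) F :=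
    { toFun := fun c => (σ c).restrict fun v hv => hFinv c c.2 v hv
      map_one' := LinearMap.ext fun v => Subtype.ext (by simp)
      map_mul' := fun a b => LinearMap.ext fun v => Subtype.ext (by simp [Module.End.mul_apply]) }
  have hr : ∀ (c : C) (v : F), ((r c v : F) : V) = σ c v := fun c v => rfl
  let bas := Module.finBasis (ZMod p) F
  let M := LinearMap.toMatrixAlgEquiv bas
  let ρ : C →* Matrix (Fin (Module.finrank (ZMod p) F)) (Fin (Module.finrank (ZMod p) F))
      (ZMod p) := M.toMonoidHom.comp r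
  have hρ : ∀ (c : C) (v : F), bas.equivFun (r c v) = ρ c *ᵥ bas.equivFun v := fun c v =>
    (LinearMap.toMatrix_mulVec_repr bas bas (r c) v).symm
  let N : Subgroup C := ρ.ker
  let ρb : C ⧸ N →* Matrix (Fin (Module.finrank (ZMod p) F)) (Fin (Module.finrank (ZMod p) F))
      (ZMod p) := QuotientGroup.lift N ρ le_rfl
  have hρb : ∀ c : C, ρb c = ρ c := fun c => rfl
  have hinj : Function.Injective ρb := by
    intro x y
    induction x using QuotientGroup.induction_on with | _ x => ?_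
    induction y using QuotientGroup.induction_on with | _ y => ?_
    intro h
    rw [hρb, hρb] at h
    refine QuotientGroup.eq.2 (MonoidHom.mem_ker.2 ?_)
    rw [map_mul, ← h, ← map_mul, inv_mul_cancel, map_one]
  have hn0 : Nonempty (Fin (Module.finrank (ZMod p) F)) := by
    rw [← Fin.pos_iff_nonempty, Module.finrank_pos_iff]
    exact (Submodule.nontrivial_iff_ne_bot).2 hF0
  set x : C ⧸ N := ((⟨u, hu⟩ : C) : C ⧸ N) with hx
  have hx1 : x ≠ 1 := by
    intro h
    obtain ⟨v, hv, hne⟩ := hne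
    apply hne
    have h' : ρ ⟨u, hu⟩ = 1 := MonoidHom.mem_ker.1 ((QuotientGroup.eq_one_iff _).1 h)
    have := hρ ⟨u, hu⟩ ⟨v, hv⟩
    rw [h', Matrix.one_mulVec] at this
    exact congrArg Subtype.val (bas.equivFun.injective this)
  have hx0 : (ρb x - 1) * (ρb x - 1) = 0 := by
    show (M (r ⟨u, hu⟩) - 1) * (M (r ⟨u, hu⟩) - 1) = 0
    rw [← map_one M, ← map_sub, ← map_mul, ← map_zero M]
    congr 1
    exact LinearMap.ext fun v => Subtype.ext (by
      simpa [Module.End.mul_apply, hr] using LinearMap.congr_fun hq (v : V))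
  have hxp : IsPGroup p (Subgroup.zpowers x) := by
    refine IsPGroup.of_card_dvd_pow (n := 1) ?_
    rw [Nat.card_zpowers, pow_one]
    refine orderOf_dvd_of_pow_eq_one (hinj ?_)
    have h := sub_pow_char_of_commute (p := p) (Commute.one_right (ρb x))
    have hz : (ρb x - 1) ^ p = 0 :=
      pow_eq_zero_of_le (Fact.out : p.Prime).two_le ((sq _).trans hx0)
    rw [one_pow, hz] at h
    rw [map_pow, map_one]
    exact sub_eq_zero.1 h.symm
  -- no normal `p`-subgroups
  have hcore : ∀ P : Subgroup (C ⧸ N), P.Normal → IsPGroup p P → P = ⊥ := by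
    intro P hP hPp
    letI : MulAction P (Fin (Module.finrank (ZMod p) F) → ZMod p) :=
      { smul := fun g v => ρb (g : C ⧸ N) *ᵥ v
        one_smul := fun v => by
          show ρb ((1 : P) : C ⧸ N) *ᵥ v = v
          rw [Subgroup.coe_one, map_one, Matrix.one_mulVec]
        mul_smul := fun g g' v => by
          show ρb ((g * g' : P) : C ⧸ N) *ᵥ v = ρb (g : C ⧸ N) *ᵥ (ρb (g' : C ⧸ N) *ᵥ v)
          rw [Subgroup.coe_mul, map_mul, Matrix.mulVec_mulVec] }
    have h0 : (0 : Fin (Module.finrank (ZMod p) F) → ZMod p) ∈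
        MulAction.fixedPoints P (Fin (Module.finrank (ZMod p) F) → ZMod p) := fun g =>
      Matrix.mulVec_zero _
    obtain ⟨w, hw, hw0⟩ := hPp.exists_fixed_point_of_prime_dvd_card_of_fixed_point
      (Fin (Module.finrank (ZMod p) F) → ZMod p) (by
        rw [Nat.card_fun, Nat.card_zmod]
        exact dvd_pow_self p (Nat.card_pos (α := Fin (Module.finrank (ZMod p) F))).ne') h0
    let S : Submodule (ZMod p) F :=
      { carrier := {v | ∀ g ∈ P, ρb g *ᵥ bas.equivFun v = bas.equivFun v}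
        add_mem' := fun {a b} ha hb g hg => by
          rw [map_add, Matrix.mulVec_add, ha g hg, hb g hg]
        zero_mem' := fun g _ => by rw [map_zero, Matrix.mulVec_zero]
        smul_mem' := fun c v hv g hg => by rw [map_smul, Matrix.mulVec_smul, hv g hg] }
    have hwS : bas.equivFun.symm w ∈ S := fun g hg => by
      rw [LinearEquiv.apply_symm_apply]; exact hw ⟨g, hg⟩
    have hSinv : Inv σ C (S.map F.subtype) := by
      rintro c hc _ ⟨v, hv, rfl⟩
      refine ⟨r ⟨c, hc⟩ v, fun g hg => ?_, hr _ _⟩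
      rw [hρ, ← hρb, Matrix.mulVec_mulVec, ← map_mul,
        show g * ((⟨c, hc⟩ : C) : C ⧸ N) =
          (⟨c, hc⟩ : C) * (((⟨c, hc⟩ : C) : C ⧸ N)⁻¹ * g * ((⟨c, hc⟩ : C) : C ⧸ N)) by group,
        map_mul, ← Matrix.mulVec_mulVec, hv _ (hP.conj_mem' g hg _)]
    rcases hFmin _ (Submodule.map_subtype_le F S) hSinv with h | h
    · exfalso
      have := Submodule.mem_map_of_mem (f := F.subtype) hwS
      rw [h, Submodule.mem_bot] at this
      exact hw0 (bas.equivFun.symm.map_eq_zero_iff.1 (Subtype.ext this)).symm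
    · rw [Subgroup.eq_bot_iff_forall]
      intro g hg
      apply hinj
      rw [map_one]
      apply Matrix.toLin'.injective
      refine LinearMap.ext fun z => ?_
      have hz : ((bas.equivFun.symm z : F) : V) ∈ S.map F.subtype := by rw [h]; exact Subtype.prop _
      obtain ⟨v, hv, hvz⟩ := hz
      have := hv g hg
      rw [show v = bas.equivFun.symm z from Subtype.ext hvz, LinearEquiv.apply_symm_apply] at this
      simpa [Matrix.toLin'_apply] using this
  obtain ⟨gq, hg⟩ : ∃ gq : C ⧸ N,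
      ¬ IsPGroup p (Subgroup.closure ({x, gq * x * gq⁻¹} : Set (C ⧸ N))) := by
    by_contra hall
    push Not at hall
    obtain ⟨P, hP, hPp, hxP⟩ :=
      Cfsg.Agent.Lib.Involutions.BaerSuzuki.baer_suzuki_elem hxp hall
    rw [hcore P hP hPp, Subgroup.mem_bot] at hxP
    exact hx1 hxP
  obtain ⟨g, rfl⟩ := QuotientGroup.mk_surjective gq
  set W : Subgroup (C ⧸ N) := Subgroup.closure {x, (g : C ⧸ N) * x * (g : C ⧸ N)⁻¹} with hW
  have hgen : Subgroup.closure ({⟨x, Subgroup.subset_closure (Or.inl rfl)⟩,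
      ⟨(g : C ⧸ N) * x * (g : C ⧸ N)⁻¹, Subgroup.subset_closure (Or.inr rfl)⟩} : Set W) = ⊤ := by
    apply Subgroup.map_injective W.subtype_injective
    rw [MonoidHom.map_closure, Set.image_pair, ← MonoidHom.range_eq_map, Subgroup.range_subtype]
    rfl
  obtain ⟨K, f, hf⟩ := exists_surjection hp (ρb.comp W.subtype)
    (hinj.comp W.subtype_injective) hgen hx0 (by
      show (ρb ((g : C ⧸ N) * x * (g : C ⧸ N)⁻¹) - 1) *
        (ρb ((g : C ⧸ N) * x * (g : C ⧸ N)⁻¹) - 1) = 0
      generalize (g : C ⧸ N) = y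
      have e1 : ρb y * ρb y⁻¹ = 1 := by rw [← map_mul, mul_inv_cancel, map_one]
      have e2 : ρb y⁻¹ * ρb y = 1 := by rw [← map_mul, inv_mul_cancel, map_one]
      have e3 : ρb (y * x * y⁻¹) - 1 = ρb y * (ρb x - 1) * ρb y⁻¹ := by
        rw [map_mul, map_mul, mul_sub, sub_mul, mul_one, e1]
      rw [e3, show ρb y * (ρb x - 1) * ρb y⁻¹ * (ρb y * (ρb x - 1) * ρb y⁻¹) =
        ρb y * ((ρb x - 1) * (ρb y⁻¹ * ρb y) * (ρb x - 1)) * ρb y⁻¹ by noncomm_ring, e2, mul_one,
        hx0, mul_zero, zero_mul]) hg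
  -- lift to the closure in `C`
  set L : Subgroup C := Subgroup.closure {(⟨u, hu⟩ : C), g * ⟨u, hu⟩ * g⁻¹} with hL
  have hLW : L.map (QuotientGroup.mk' N) = W := by
    rw [hL, hW, MonoidHom.map_closure, Set.image_pair]
    rfl
  let π : L →* W := ((QuotientGroup.mk' N).comp L.subtype).codRestrict W fun z =>
    hLW ▸ Subgroup.mem_map_of_mem _ z.2
  have hπ : Function.Surjective π := by
    rintro ⟨y, hy⟩
    rw [← hLW] at hy
    obtain ⟨z, hz, rfl⟩ := hy
    exact ⟨⟨z, hz⟩, rfl⟩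
  let f' : K.comap π →* Matrix.SpecialLinearGroup (Fin 2) (ZMod p) :=
    f.comp ((π.comp (K.comap π).subtype).codRestrict K fun z => z.2)
  have hf' : Function.Surjective f' := by
    intro m
    obtain ⟨⟨k, hk⟩, rfl⟩ := hf m
    obtain ⟨z, rfl⟩ := hπ k
    exact ⟨⟨z, hk⟩, rfl⟩
  haveI : Fact (Nat.Prime 2) := ⟨Nat.prime_two⟩
  let T : Sylow 2 (K.comap π) := default
  obtain ⟨a, ha, b, hb, hab⟩ := exists_noncomm hp (T.mapSurjective hf')
  obtain ⟨s, hs, rfl⟩ := (ha : a ∈ (T : Subgroup (K.comap π)).map f')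
  obtain ⟨t, ht, rfl⟩ := (hb : b ∈ (T : Subgroup (K.comap π)).map f')
  let j : K.comap π →* Γ := C.subtype.comp (L.subtype.comp (K.comap π).subtype)
  obtain ⟨e, he, hce⟩ := hcomm ((T : Subgroup (K.comap π)).map j)
    (by rintro _ ⟨z, -, rfl⟩; exact ((L.subtype ((K.comap π).subtype z)) : C).2)
    (T.isPGroup'.map j) (j s) (Subgroup.mem_map_of_mem j hs) (j t) (Subgroup.mem_map_of_mem j ht)
  rw [← map_commutatorElement] at hce
  refine ⟨g, g.2, j ⁅s, t⁆, ?_, e, he, hce, ?_⟩
  · have hmap : L.map C.subtype = Subgroup.closure ({u, (g : Γ) * u * (g : Γ)⁻¹} : Set Γ) := by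
      rw [hL, MonoidHom.map_closure, Set.image_pair]
      rfl
    rw [← hmap]
    exact Subgroup.mem_map_of_mem _ ((K.comap π).subtype ⁅s, t⁆).2
  -- the commutator is not trivial on `F`
  have hnt : ∃ v ∈ F, σ e v ≠ v := by
    by_contra hall
    push Not at hall
    apply hab
    have hk : L.subtype ((K.comap π).subtype ⁅s, t⁆) ∈ N := by
      refine MonoidHom.mem_ker.2 ?_
      show M (r _) = 1
      rw [← map_one M]
      congr 1
      refine LinearMap.ext fun v => Subtype.ext ?_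
      rw [hr]
      show σ (j ⁅s, t⁆) (v : V) = (v : V)
      rw [hce, hall _ v.2]
    have h1 : π ((K.comap π).subtype ⁅s, t⁆) = 1 :=
      Subtype.ext ((QuotientGroup.eq_one_iff _).2 hk)
    have h2 : f' ⁅s, t⁆ = 1 := by
      show f _ = 1
      rw [← map_one f]
      congr 1
      exact Subtype.ext h1
    rw [map_commutatorElement, commutatorElement_eq_one_iff_mul_comm] at h2
    exact h2
  -- an involution commuting with an irreducible group is a scalar
  intro v hv
  rcases hFmin (negSpace σ e ⊓ F) inf_le_right ((inv_negSpace (hEC e he)).inf hFinv) with h | h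
  · exfalso
    obtain ⟨w, hw, hne'⟩ := hnt
    apply hne'
    have hew : σ e w ∈ F := hce ▸ hFinv _ (((L.subtype ((K.comap π).subtype ⁅s, t⁆)) : C)).2 w hw
    have hmem : σ e w - w ∈ negSpace σ e ⊓ F := by
      refine ⟨mem_negSpace.2 ?_, F.sub_mem hew hw⟩
      rw [map_sub, ← apply_mul, hE2 e he, Module.End.one_apply, neg_sub]
    rw [h, Submodule.mem_bot, sub_eq_zero] at hmem
    exact hmem
  · exact mem_negSpace.1 ((inf_eq_right.1 h) hv)

end Neg

section Count

variable {C E B : Subgroup Γ}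

theorem finrank_map_add_inf_ker (f : Module.End (ZMod p) V) (F : Submodule (ZMod p) V) :
    Module.finrank (ZMod p) (F.map f : Submodule (ZMod p) V) +
      Module.finrank (ZMod p) (F ⊓ LinearMap.ker f : Submodule (ZMod p) V) =
        Module.finrank (ZMod p) F := by
  haveI : Module.Finite (ZMod p) F := Module.Finite.of_finite
  have h := LinearMap.finrank_range_add_finrank_ker (f.domRestrict F)
  rw [LinearMap.range_domRestrict, LinearMap.ker_domRestrict] at h
  rw [← h, ← Submodule.map_comap_subtype,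
    LinearEquiv.finrank_eq (Submodule.equivMapOfInjective F.subtype F.subtype_injective _).symm]

theorem card_sup_eq {F F' : Submodule (ZMod p) V} (h : F ⊓ F' = ⊥) :
    Nat.card (F ⊔ F' : Submodule (ZMod p) V) = Nat.card F * Nat.card F' := by
  haveI : Module.Finite (ZMod p) V := Module.Finite.of_finite
  have h' := Submodule.finrank_sup_add_finrank_inf_eq F F'
  rw [h, finrank_bot, add_zero] at h'
  rw [Module.natCard_eq_pow_finrank (K := ZMod p), Module.natCard_eq_pow_finrank (K := ZMod p)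
    (V := F), Module.natCard_eq_pow_finrank (K := ZMod p) (V := F'), h', pow_add]

/-- On an irreducible constituent moved by a quadratic element, the fixed space is the commutator. -/
theorem exists_sub_eq_of_fixed (hp : p ≠ 2) [C.Normal]
    (hEC : ∀ e ∈ E, ∀ c ∈ C, σ (e * c) = σ (c * e)) (hE2 : ∀ e ∈ E, σ (e * e) = 1)
    (hcomm : ∀ S : Subgroup Γ, S ≤ C → IsPGroup 2 S → ∀ s ∈ S, ∀ t ∈ S,
      ∃ e ∈ E, σ ⁅s, t⁆ = σ e)
    {F : Submodule (ZMod p) V} (hF : IsMinInv σ C F) {u : Γ} (hu : u ∈ C)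
    (hq : (σ u - 1) * (σ u - 1) = 0) (hne : ∃ v ∈ F, σ u v ≠ v) :
    F ⊓ LinearMap.ker (σ u - 1) = F.map (σ u - 1) := by
  haveI : Module.Finite (ZMod p) V := Module.Finite.of_finite
  obtain ⟨g, hg, c, hc, e, he, hce, hneg⟩ := exists_neg hp hEC hE2 hcomm hF hu hq hne
  have h2 : (2 : ZMod p) ≠ 0 := by
    intro h
    apply hp
    have : ((2 : ℕ) : ZMod p) = 0 := by exact_mod_cast h
    rw [ZMod.natCast_eq_zero_iff] at this
    exact ((Nat.prime_dvd_prime_iff_eq Fact.out Nat.prime_two).1 this)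
  set u' := g * u * g⁻¹ with hu'def
  have hu' : u' ∈ C := C.mul_mem (C.mul_mem hg hu) (C.inv_mem hg)
  have hcl : Subgroup.closure ({u, u'} : Set Γ) ≤ C := by
    rw [Subgroup.closure_le]
    rintro x (rfl | rfl)
    exacts [hu, hu']
  have hq' : (σ u' - 1) * (σ u' - 1) = 0 := by
    have e1 : σ g * σ g⁻¹ = 1 := by rw [← map_mul, mul_inv_cancel, map_one]
    have e2 : σ g⁻¹ * σ g = 1 := by rw [← map_mul, inv_mul_cancel, map_one]
    have e3 : σ u' - 1 = σ g * (σ u - 1) * σ g⁻¹ := by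
      rw [hu'def, map_mul, map_mul, mul_sub, sub_mul, mul_one, e1]
    rw [e3, show σ g * (σ u - 1) * σ g⁻¹ * (σ g * (σ u - 1) * σ g⁻¹) =
      σ g * ((σ u - 1) * (σ g⁻¹ * σ g) * (σ u - 1)) * σ g⁻¹ by noncomm_ring, e2, mul_one, hq,
      mul_zero, zero_mul]
  have hle : ∀ x ∈ C, (σ x - 1) * (σ x - 1) = 0 →
      F.map (σ x - 1) ≤ F ⊓ LinearMap.ker (σ x - 1) := by
    rintro x hx hqx _ ⟨w, hw, rfl⟩
    refine ⟨?_, ?_⟩
    · simp only [LinearMap.sub_apply, Module.End.one_apply]
      exact F.sub_mem (hF.2.1 x hx w hw) hw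
    · exact LinearMap.mem_ker.2 (LinearMap.congr_fun hqx w)
  have hfixed : F ⊓ LinearMap.ker (σ u - 1) ⊓ (F ⊓ LinearMap.ker (σ u' - 1)) = ⊥ := by
    rw [Submodule.eq_bot_iff]
    rintro v ⟨⟨hv, hvu⟩, -, hvu'⟩
    have hfix : ∀ x ∈ Subgroup.closure ({u, u'} : Set Γ), σ x v = v := by
      intro x hx
      induction hx using Subgroup.closure_induction with
      | mem x hx =>
        rcases hx with rfl | rfl
        · exact sub_eq_zero.1 (by simpa using hvu)
        · exact sub_eq_zero.1 (by simpa using hvu')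
      | one => simp
      | mul x y _ _ hx hy => rw [apply_mul, hy, hx]
      | inv x _ hx =>
        have h := inv_apply_apply (σ := σ) x v
        rwa [hx] at h
    have hvv : v = -v := by rw [← hneg v hv, ← hce, hfix c hc]
    have h2v : (2 : ZMod p) • v = 0 := by rw [two_smul]; nth_rewrite 2 [hvv]; exact add_neg_cancel v
    exact (smul_eq_zero.1 h2v).resolve_left h2
  have hspan : F ≤ F.map (σ u - 1) ⊔ F.map (σ u' - 1) := by
    have hmove : ∀ x ∈ Subgroup.closure ({u, u'} : Set Γ), ∀ w ∈ F,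
        σ x w - w ∈ F.map (σ u - 1) ⊔ F.map (σ u' - 1) := by
      intro x hx
      induction hx using Subgroup.closure_induction with
      | mem x hx =>
        intro w hw
        rcases hx with rfl | rfl
        · exact Submodule.mem_sup_left ⟨w, hw, rfl⟩
        · exact Submodule.mem_sup_right ⟨w, hw, rfl⟩
      | one => intro w _; simp
      | mul x y _ hy' hx hy =>
        intro w hw
        have := Submodule.add_mem _ (hx (σ y w) (hF.2.1 y (hcl hy') w hw)) (hy w hw)
        rw [sub_add_sub_cancel] at this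
        rwa [apply_mul]
      | inv x hx' hx =>
        intro w hw
        have := Submodule.neg_mem _ (hx (σ x⁻¹ w) (hF.2.1 _ (hcl (inv_mem hx')) w hw))
        rwa [apply_inv_apply, neg_sub] at this
    intro v hv
    have h1 := hmove c hc v hv
    rw [hce, hneg v hv, show -v - v = (-2 : ZMod p) • v by rw [neg_smul, two_smul]; abel] at h1
    exact (Submodule.smul_mem_iff _ (neg_ne_zero.2 h2)).1 h1
  have h1 := finrank_map_add_inf_ker (σ u - 1) F
  have h1' := finrank_map_add_inf_ker (σ u' - 1) F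
  have h3 := Submodule.finrank_mono (hle u hu hq)
  have h3' := Submodule.finrank_mono (hle u' hu' hq')
  have h4 := Submodule.finrank_sup_add_finrank_inf_eq (F ⊓ LinearMap.ker (σ u - 1))
    (F ⊓ LinearMap.ker (σ u' - 1))
  rw [hfixed, finrank_bot, add_zero] at h4
  have h5 := Submodule.finrank_mono (sup_le (inf_le_left (a := F) (b := LinearMap.ker (σ u - 1)))
    (inf_le_left (a := F) (b := LinearMap.ker (σ u' - 1))))
  have h6 := Submodule.finrank_mono hspan
  have h7 := Submodule.finrank_add_le_finrank_add_finrank (F.map (σ u - 1)) (F.map (σ u' - 1))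
  exact (Submodule.eq_of_le_of_finrank_le (hle u hu hq) (by omega)).symm

/-- The restrictions of `B` to `S`. -/
def restr (σ : Γ →* Module.End (ZMod p) V) (B : Subgroup Γ) (S : Submodule (ZMod p) V) :
    Set (S → V) := Set.range fun (b : B) (v : S) => σ b v

theorem card_restr_bot : Nat.card (restr σ B ⊥) ≤ 1 := by
  haveI : Subsingleton (restr σ B ⊥) := by
    constructor
    rintro ⟨_, b, rfl⟩ ⟨_, b', rfl⟩
    refine Subtype.ext (funext fun v => ?_)
    show σ b (v : V) = σ b' (v : V)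
    rw [show (v : V) = 0 from (Submodule.mem_bot (ZMod p)).1 v.2]
    simp
  exact Finite.card_le_one_iff_subsingleton.2 inferInstance

variable (hp : p ≠ 2) [C.Normal]
  (hEC : ∀ e ∈ E, ∀ c ∈ C, σ (e * c) = σ (c * e)) (hE2 : ∀ e ∈ E, σ (e * e) = 1)
  (hcomm : ∀ S : Subgroup Γ, S ≤ C → IsPGroup 2 S → ∀ s ∈ S, ∀ t ∈ S,
    ∃ e ∈ E, σ ⁅s, t⁆ = σ e)
  (hBC : B ≤ C) (hquad : ∀ b ∈ B, ∀ b' ∈ B, (σ b - 1) * (σ b' - 1) = 0)

include hp hEC hE2 hcomm hBC hquad

/-- `B` costs at least as much as it offers, on every constituent. -/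
theorem card_restr_min {F : Submodule (ZMod p) V} (hF : IsMinInv σ C F) :
    Nat.card (restr σ B F) * Nat.card (fixSpace σ B ⊓ F : Submodule (ZMod p) V) ≤ Nat.card F := by
  haveI : Module.Finite (ZMod p) V := Module.Finite.of_finite
  by_cases htriv : ∀ b ∈ B, ∀ v ∈ F, σ b v = v
  · have h1 : fixSpace σ B ⊓ F = F := inf_eq_right.2 fun v hv b hb => htriv b hb v hv
    haveI : Subsingleton (restr σ B F) := by
      constructor
      rintro ⟨_, b, rfl⟩ ⟨_, b', rfl⟩
      exact Subtype.ext (funext fun v => by simp only [htriv _ b.2 v v.2, htriv _ b'.2 v v.2])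
    rw [h1]
    calc _ ≤ 1 * Nat.card F :=
        Nat.mul_le_mul_right _ (Finite.card_le_one_iff_subsingleton.2 inferInstance)
      _ = _ := one_mul _
  push Not at htriv
  obtain ⟨u, hu, w0, hw0, hne⟩ := htriv
  have key : ∀ b ∈ B, (∃ v ∈ F, σ b v ≠ v) →
      F ⊓ LinearMap.ker (σ b - 1) = fixSpace σ B ⊓ F := by
    intro b hb hbne
    refine le_antisymm ?_ fun v hv => ⟨hv.2, by simp [hv.1 b hb]⟩
    rw [exists_sub_eq_of_fixed hp hEC hE2 hcomm hF (hBC hb) (hquad b hb b hb) hbne]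
    rintro _ ⟨w, hw, rfl⟩
    refine ⟨fun b' hb' => sub_eq_zero.1 ?_, ?_⟩
    · have := LinearMap.congr_fun (hquad b' hb' b hb) w
      simpa [Module.End.mul_apply] using this
    · simpa using F.sub_mem (hF.2.1 b (hBC hb) w hw) hw
  have hC := key u hu ⟨w0, hw0, hne⟩
  have hw0C : w0 ∉ fixSpace σ B ⊓ F := fun h => hne (h.1 u hu)
  -- restrictions are determined by the image of `w0`
  have hdet : ∀ b ∈ B, σ b w0 = w0 → ∀ v ∈ F, σ b v = v := by
    intro b hb hfix v hv
    by_contra hbv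
    exact hw0C (key b hb ⟨v, hv, hbv⟩ ▸ ⟨hw0, by simp [hfix]⟩)
  let φ : restr σ B F → (fixSpace σ B ⊓ F : Submodule (ZMod p) V) := fun φ =>
    ⟨φ.1 ⟨w0, hw0⟩ - w0, by
      obtain ⟨_, b, rfl⟩ := φ
      refine ⟨fun b' hb' => sub_eq_zero.1 ?_, F.sub_mem (hF.2.1 b (hBC b.2) w0 hw0) hw0⟩
      have := LinearMap.congr_fun (hquad b' hb' b b.2) w0
      simpa [Module.End.mul_apply] using this⟩
  have hφ : Function.Injective φ := by
    rintro ⟨_, b, rfl⟩ ⟨_, b', rfl⟩ h
    have h' : σ b w0 = σ b' w0 := sub_left_inj.1 (congrArg Subtype.val h)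
    refine Subtype.ext (funext fun v => ?_)
    have := hdet _ (B.mul_mem (B.inv_mem b'.2) b.2) (by rw [apply_mul, h', inv_apply_apply]) v v.2
    rw [apply_mul] at this
    have h'' := congrArg (σ (b' : Γ)) this
    rwa [apply_inv_apply] at h''
  have hrn := finrank_map_add_inf_ker (σ u - 1) F
  rw [← exists_sub_eq_of_fixed hp hEC hE2 hcomm hF (hBC hu) (hquad u hu u hu) ⟨w0, hw0, hne⟩,
    hC] at hrn
  calc _ ≤ Nat.card (fixSpace σ B ⊓ F : Submodule (ZMod p) V) *
        Nat.card (fixSpace σ B ⊓ F : Submodule (ZMod p) V) :=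
      Nat.mul_le_mul_right _ (Nat.card_le_card_of_injective φ hφ)
    _ = Nat.card F := by
      rw [Module.natCard_eq_pow_finrank (K := ZMod p) (V := F),
        Module.natCard_eq_pow_finrank (K := ZMod p)
          (V := (fixSpace σ B ⊓ F : Submodule (ZMod p) V)), ← pow_add, hrn]

/-- The same on a sum of independent constituents. -/
theorem card_restr_finset (t : Finset (Submodule (ZMod p) V)) (ht : ∀ F ∈ t, IsMinInv σ C F)
    (hind : ∀ F ∈ t, F ⊓ (t.erase F).sup id = ⊥) (s : Finset (Submodule (ZMod p) V))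
    (hs : s ⊆ t) :
    Nat.card (restr σ B (s.sup id)) *
      Nat.card (fixSpace σ B ⊓ s.sup id : Submodule (ZMod p) V) ≤
        Nat.card (s.sup id : Submodule (ZMod p) V) := by
  classical
  induction s using Finset.induction_on with
  | empty =>
    rw [Finset.sup_empty, inf_bot_eq]
    calc _ ≤ 1 * Nat.card (⊥ : Submodule (ZMod p) V) := Nat.mul_le_mul_right _ card_restr_bot
      _ = _ := one_mul _
  | insert F s hFs ih =>
    have hFt : F ∈ t := hs (Finset.mem_insert_self F s)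
    have hst : s ⊆ t := fun x hx => hs (Finset.mem_insert_of_mem hx)
    set S := s.sup id with hS
    have hdisj : F ⊓ S = ⊥ := le_bot_iff.1 ((inf_le_inf_left F (Finset.sup_mono fun x hx =>
      Finset.mem_erase.2 ⟨fun h => hFs (by rwa [h] at hx), hst hx⟩)).trans (hind F hFt).le)
    have hinvS : Inv σ C S := inv_finset_sup fun x hx => (ht x (hst hx)).2.1
    rw [Finset.sup_insert, id_eq]
    show Nat.card (restr σ B (F ⊔ S)) * _ ≤ _
    have hfix : fixSpace σ B ⊓ (F ⊔ S) = (fixSpace σ B ⊓ F) ⊔ (fixSpace σ B ⊓ S) := by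
      refine le_antisymm ?_ (sup_le (inf_le_inf_left _ le_sup_left)
        (inf_le_inf_left _ le_sup_right))
      rintro v ⟨hv, hvs⟩
      obtain ⟨x, hx, y, hy, rfl⟩ := Submodule.mem_sup.1 hvs
      have hxy : ∀ b ∈ B, σ b x - x = 0 ∧ σ b y - y = 0 := by
        intro b hb
        have hx' := F.sub_mem ((ht F hFt).2.1 b (hBC hb) x hx) hx
        have hy' := S.sub_mem (hinvS b (hBC hb) y hy) hy
        have hsum : σ b x - x = -(σ b y - y) := by
          have := hv b hb
          rw [map_add] at this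
          rw [← add_eq_zero_iff_eq_neg, ← sub_eq_zero.2 this]
          abel
        have hz : σ b x - x = 0 := by
          have : σ b x - x ∈ F ⊓ S := ⟨hx', hsum ▸ S.neg_mem hy'⟩
          rwa [hdisj, Submodule.mem_bot] at this
        refine ⟨hz, ?_⟩
        rw [hz] at hsum
        exact neg_eq_zero.1 hsum.symm
      exact Submodule.add_mem_sup ⟨fun b hb => sub_eq_zero.1 (hxy b hb).1, hx⟩
        ⟨fun b hb => sub_eq_zero.1 (hxy b hb).2, hy⟩
    have hfd : (fixSpace σ B ⊓ F) ⊓ (fixSpace σ B ⊓ S) = ⊥ :=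
      le_bot_iff.1 ((inf_le_inf inf_le_right inf_le_right).trans hdisj.le)
    rw [hfix, card_sup_eq hdisj, card_sup_eq hfd]
    let π : restr σ B (F ⊔ S) → restr σ B F × restr σ B S := fun φ =>
      (⟨fun v => φ.1 ⟨v, Submodule.mem_sup_left v.2⟩, by obtain ⟨_, b, rfl⟩ := φ; exact ⟨b, rfl⟩⟩,
       ⟨fun v => φ.1 ⟨v, Submodule.mem_sup_right v.2⟩, by obtain ⟨_, b, rfl⟩ := φ; exact ⟨b, rfl⟩⟩)
    have hπ : Function.Injective π := by
      rintro ⟨_, b, rfl⟩ ⟨_, b', rfl⟩ h
      refine Subtype.ext (funext fun v => ?_)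
      obtain ⟨x, hx, y, hy, hxy⟩ := Submodule.mem_sup.1 v.2
      have h1 : σ b x = σ b' x := congrFun (congrArg (fun q => Subtype.val q.1) h) ⟨x, hx⟩
      have h2 : σ b y = σ b' y := congrFun (congrArg (fun q => Subtype.val q.2) h) ⟨y, hy⟩
      show σ b v = σ b' v
      rw [← hxy, map_add, map_add, h1, h2]
    have hle := Nat.card_le_card_of_injective π hπ
    rw [Nat.card_prod] at hle
    calc _ ≤ Nat.card (restr σ B F) * Nat.card (restr σ B S) *
          (Nat.card (fixSpace σ B ⊓ F : Submodule (ZMod p) V) *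
            Nat.card (fixSpace σ B ⊓ S : Submodule (ZMod p) V)) := Nat.mul_le_mul_right _ hle
      _ = (Nat.card (restr σ B F) * Nat.card (fixSpace σ B ⊓ F : Submodule (ZMod p) V)) *
          (Nat.card (restr σ B S) * Nat.card (fixSpace σ B ⊓ S : Submodule (ZMod p) V)) := by ring
      _ ≤ _ := Nat.mul_le_mul (card_restr_min hp hEC hE2 hcomm hBC hquad (ht F hFt)) (ih hst)

/-- An offender gives an element of `B` moving exactly one constituent. -/
theorem exists_single_mover (hne : ∃ b ∈ B, σ b ≠ 1)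
    (hoff : Nat.card V ≤ Nat.card (σ '' (B : Set Γ)) * Nat.card (fixSpace σ B))
    (hirr : ∀ S : Submodule (ZMod p) V, Inv σ ⊤ S → S = ⊥ ∨ S = ⊤) :
    ∃ F F' : Submodule (ZMod p) V, IsMinInv σ C F ∧ Inv σ C F' ∧ F ⊓ F' = ⊥ ∧ F ⊔ F' = ⊤ ∧
      ∃ b ∈ B, (∀ v ∈ F', σ b v = v) ∧ ∃ v ∈ F, σ b v ≠ v := by
  classical
  obtain ⟨t, ht, htop, hind⟩ := exists_decomposition (σ := σ) C hirr
  obtain ⟨F0, hF0, hmove⟩ : ∃ F ∈ t, ∃ b ∈ B, ∃ v ∈ F, σ b v ≠ v := by
    by_contra hall
    push Not at hall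
    obtain ⟨b, hb, hb1⟩ := hne
    apply hb1
    refine LinearMap.ext fun v => ?_
    have hle : t.sup id ≤ LinearMap.ker (σ b - 1) := Finset.sup_le fun F hF v hv => by
      simp [hall F hF b hb v hv]
    have : v ∈ LinearMap.ker (σ b - 1) := hle (htop ▸ Submodule.mem_top)
    simpa [sub_eq_zero] using this
  set S' := (t.erase F0).sup id with hS'
  have hsup : F0 ⊔ S' = ⊤ := by
    rw [← htop, hS', ← Finset.insert_erase hF0, Finset.sup_insert, id_eq, Finset.erase_insert
      (Finset.notMem_erase F0 t)]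
  have hinv' : Inv σ C S' := inv_finset_sup fun F hF => (ht F (Finset.mem_of_mem_erase hF)).2.1
  have hdiff : ∀ b : Γ, (∀ v ∈ S', σ b v = v) → σ b ≠ 1 → ∃ v ∈ F0, σ b v ≠ v := by
    intro b hS hb1
    by_contra hall
    push Not at hall
    apply hb1
    refine LinearMap.ext fun v => ?_
    obtain ⟨x, hx, y, hy, rfl⟩ := Submodule.mem_sup.1 (show v ∈ F0 ⊔ S' from
      hsup ▸ Submodule.mem_top)
    rw [map_add, hall x hx, hS y hy, Module.End.one_apply]
  by_cases hk : ∃ b ∈ B, σ b ≠ 1 ∧ ∀ v ∈ S', σ b v = v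
  · obtain ⟨b, hb, hb1, hS⟩ := hk
    exact ⟨F0, S', ht F0 hF0, hinv', hind F0 hF0, hsup, b, hb, hS, hdiff b hS hb1⟩
  exfalso
  push Not at hk
  let ψ : (σ '' (B : Set Γ)) → restr σ B S' := fun f =>
    ⟨fun v => f.1 v, by obtain ⟨_, b, hb, rfl⟩ := f; exact ⟨⟨b, hb⟩, rfl⟩⟩
  have hψ : Function.Injective ψ := by
    rintro ⟨_, b, hb, rfl⟩ ⟨_, b', hb', rfl⟩ h
    refine Subtype.ext (by_contra fun hne' => ?_)
    have h1 : σ (b'⁻¹ * b) ≠ 1 := by
      intro h1
      apply hne'
      show σ b = σ b'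
      rw [← mul_one (σ b'), ← h1, ← map_mul, mul_inv_cancel_left]
    obtain ⟨v, hv, hvne⟩ := hk _ (B.mul_mem (B.inv_mem hb') hb) h1
    apply hvne
    have : σ b v = σ b' v := congrFun (congrArg Subtype.val h) ⟨v, hv⟩
    rw [apply_mul, this, inv_apply_apply]
  have h1 := card_restr_finset hp hEC hE2 hcomm hBC hquad t ht hind (t.erase F0)
    (Finset.erase_subset _ _)
  rw [← hS'] at h1
  have hV : Nat.card V = Nat.card F0 * Nat.card S' := by
    rw [← card_sup_eq (hind F0 hF0), hsup]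
    exact (Nat.card_congr (Equiv.subtypeUnivEquiv fun v => Submodule.mem_top)).symm
  have hfix : fixSpace σ B ≤ (fixSpace σ B ⊓ F0) ⊔ (fixSpace σ B ⊓ S') := by
    intro v hv
    obtain ⟨x, hx, y, hy, rfl⟩ := Submodule.mem_sup.1 (show v ∈ F0 ⊔ S' from
      hsup ▸ Submodule.mem_top)
    have hzero : ∀ b ∈ B, σ b x - x = 0 ∧ σ b y - y = 0 := by
      intro b hb
      have hsum : σ b x - x = -(σ b y - y) := by
        have := hv b hb
        rw [map_add] at this
        rw [← add_eq_zero_iff_eq_neg, ← sub_eq_zero.2 this]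
        abel
      have hz : σ b x - x = 0 := by
        have : σ b x - x ∈ F0 ⊓ S' := ⟨F0.sub_mem ((ht F0 hF0).2.1 b (hBC hb) x hx) hx,
          hsum ▸ S'.neg_mem (S'.sub_mem (hinv' b (hBC hb) y hy) hy)⟩
        rwa [hS', hind F0 hF0, Submodule.mem_bot] at this
      refine ⟨hz, ?_⟩
      rw [hz] at hsum
      exact neg_eq_zero.1 hsum.symm
    exact Submodule.add_mem_sup ⟨fun b hb => sub_eq_zero.1 (hzero b hb).1, hx⟩
      ⟨fun b hb => sub_eq_zero.1 (hzero b hb).2, hy⟩
  have hlt : Nat.card (fixSpace σ B ⊓ F0 : Submodule (ZMod p) V) < Nat.card F0 := by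
    obtain ⟨b, hb, v, hv, hvne⟩ := hmove
    refine Set.ncard_lt_ncard (s := ((fixSpace σ B ⊓ F0 : Submodule (ZMod p) V) : Set V))
      (t := (F0 : Set V)) ⟨fun w hw => hw.2, fun h => hvne ((h hv).1 b hb)⟩
  have hfd : (fixSpace σ B ⊓ F0) ⊓ (fixSpace σ B ⊓ S') = ⊥ :=
    le_bot_iff.1 ((inf_le_inf inf_le_right inf_le_right).trans (hind F0 hF0).le)
  have h2 : Nat.card (fixSpace σ B) ≤ Nat.card (fixSpace σ B ⊓ F0 : Submodule (ZMod p) V) *
      Nat.card (fixSpace σ B ⊓ S' : Submodule (ZMod p) V) := by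
    rw [← card_sup_eq hfd]
    exact Nat.card_le_card_of_injective _ (Submodule.inclusion_injective hfix)
  have h3 := Nat.card_le_card_of_injective ψ hψ
  have hpos : 0 < Nat.card S' := Nat.card_pos
  have := calc Nat.card F0 * Nat.card S' ≤ Nat.card (σ '' (B : Set Γ)) * Nat.card (fixSpace σ B) :=
        hV ▸ hoff
    _ ≤ Nat.card (restr σ B S') * (Nat.card (fixSpace σ B ⊓ F0 : Submodule (ZMod p) V) *
        Nat.card (fixSpace σ B ⊓ S' : Submodule (ZMod p) V)) := Nat.mul_le_mul h3 h2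
    _ = Nat.card (fixSpace σ B ⊓ F0 : Submodule (ZMod p) V) * (Nat.card (restr σ B S') *
        Nat.card (fixSpace σ B ⊓ S' : Submodule (ZMod p) V)) := by ring
    _ ≤ Nat.card (fixSpace σ B ⊓ F0 : Submodule (ZMod p) V) * Nat.card S' :=
        Nat.mul_le_mul_left _ h1
  exact absurd (Nat.le_of_mul_le_mul_right this hpos) (not_le.2 hlt)

/-- No quadratic offenders centralising the involutions. -/
theorem not_offender (hirr : ∀ S : Submodule (ZMod p) V, Inv σ ⊤ S → S = ⊥ ∨ S = ⊤)
    (hconj : ∀ e ∈ E, ∀ f ∈ E, σ e ≠ 1 → σ f ≠ 1 → ∃ g, σ (g * e * g⁻¹) = σ f)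
    (hrank : ∃ e ∈ E, ∃ f ∈ E, σ e ≠ 1 ∧ σ f ≠ 1 ∧ σ e ≠ σ f) (hne : ∃ b ∈ B, σ b ≠ 1)
    (hoff : Nat.card V ≤ Nat.card (σ '' (B : Set Γ)) * Nat.card (fixSpace σ B)) : False := by
  have h2 : (2 : ZMod p) ≠ 0 := by
    intro h
    apply hp
    have : ((2 : ℕ) : ZMod p) = 0 := by exact_mod_cast h
    rw [ZMod.natCast_eq_zero_iff] at this
    exact ((Nat.prime_dvd_prime_iff_eq Fact.out Nat.prime_two).1 this)
  have hneg0 : ∀ v : V, v = -v → v = 0 := fun v hv => by
    have : (2 : ZMod p) • v = 0 := by rw [two_smul]; nth_rewrite 2 [hv]; exact add_neg_cancel v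
    exact (smul_eq_zero.1 this).resolve_left h2
  obtain ⟨F, F', hF, hF', hdisj, hsup, b, hb, hbF', v, hv, hbv⟩ :=
    exists_single_mover hp hEC hE2 hcomm hBC hquad hne hoff hirr
  obtain ⟨g, hg, c, hc, e0, he0, hce, hneg⟩ :=
    exists_neg hp hEC hE2 hcomm hF (hBC hb) (hquad b hb b hb) ⟨v, hv, hbv⟩
  have hfix : ∀ w ∈ F', σ e0 w = w := by
    intro w hw
    rw [← hce]
    suffices ∀ x ∈ Subgroup.closure ({b, g * b * g⁻¹} : Set Γ), σ x w = w from this c hc
    intro x hx
    induction hx using Subgroup.closure_induction with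
    | mem x hx =>
      rcases hx with rfl | rfl
      · exact hbF' w hw
      · rw [apply_mul, apply_mul, hbF' _ (hF' _ (C.inv_mem hg) w hw), apply_inv_apply]
    | one => simp
    | mul x y _ _ hx hy => rw [apply_mul, hy, hx]
    | inv x _ hx =>
      have h := inv_apply_apply (σ := σ) x w
      rwa [hx] at h
  have hN0 : negSpace σ e0 = F := by
    refine le_antisymm (fun w hw => ?_) fun w hw => mem_negSpace.2 (hneg w hw)
    obtain ⟨x, hx, y, hy, rfl⟩ := Submodule.mem_sup.1 (show w ∈ F ⊔ F' from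
      hsup ▸ Submodule.mem_top)
    rw [mem_negSpace, map_add, hneg x hx, hfix y hy, neg_add, add_left_cancel_iff] at hw
    rw [hneg0 y hw, add_zero]
    exact hx
  have he0ne : σ e0 ≠ 1 := fun h => by
    apply hF.1
    rw [Submodule.eq_bot_iff]
    intro w hw
    refine hneg0 w ?_
    rw [← hneg w hw, h, Module.End.one_apply]
  -- every non-trivial element inverts exactly one constituent
  have hmin : ∀ e ∈ E, σ e ≠ 1 → IsMinInv σ C (negSpace σ e) := by
    intro e he hene
    obtain ⟨k, hk⟩ := hconj e0 he0 e he he0ne hene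
    rw [show negSpace σ e = (negSpace σ e0).map (σ k) by
      ext w
      rw [mem_negSpace]
      constructor
      · intro hw
        refine ⟨σ k⁻¹ w, mem_negSpace.2 ?_, apply_inv_apply k w⟩
        rw [← hk, apply_mul, apply_mul] at hw
        have := congrArg (σ k⁻¹) hw
        rwa [inv_apply_apply, map_neg] at this
      · rintro ⟨z, hz, rfl⟩
        have hz' : σ e0 z = -z := mem_negSpace.1 hz
        rw [← hk, apply_mul, apply_mul, inv_apply_apply, hz', map_neg], hN0]
    exact hF.map k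
  obtain ⟨e, he, f, hf, he1, hf1, hef⟩ := hrank
  have hsq : ∀ x ∈ E, ∀ w, σ x (σ x w) = w := fun x hx w => by
    rw [← apply_mul, hE2 x hx, Module.End.one_apply]
  have hcom : ∀ x ∈ E, ∀ y ∈ E, ∀ w, σ x (σ y w) = σ y (σ x w) := by
    intro x hx y hy w
    -- `(x y)² = 1` as well
    have h := hsq (x * y) (E.mul_mem hx hy) w
    rw [apply_mul, apply_mul] at h
    have h' := congrArg (fun z => σ y (σ x z)) h
    simp only [hsq x hx, hsq y hy] at h'
    exact h'
  -- `x` either inverts or fixes the constituent of `y`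
  have hdich : ∀ x ∈ E, σ x ≠ 1 → ∀ y ∈ E, σ y ≠ 1 → σ x ≠ σ y →
      ∀ w ∈ negSpace σ y, σ x w = w := by
    intro x hx hx1 y hy hy1 hxy w hw
    have hinv : ∀ z ∈ negSpace σ y, σ x z ∈ negSpace σ y := fun z hz => by
      rw [mem_negSpace] at hz ⊢
      rw [hcom y hy x hx, hz, map_neg]
    rcases (hmin y hy hy1).2.2 (negSpace σ x ⊓ negSpace σ y) inf_le_right
      ((inv_negSpace (hEC x hx)).inf (inv_negSpace (hEC y hy))) with h | h
    · have hmem : σ x w - w ∈ negSpace σ x ⊓ negSpace σ y :=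
        ⟨mem_negSpace.2 (by rw [map_sub, hsq x hx, neg_sub]),
          (negSpace σ y).sub_mem (hinv w hw) hw⟩
      rw [h, Submodule.mem_bot, sub_eq_zero] at hmem
      exact hmem
    · exfalso
      have hle : negSpace σ y ≤ negSpace σ x := inf_eq_right.1 h
      have heq : negSpace σ y = negSpace σ x :=
        ((hmin x hx hx1).2.2 _ hle (inv_negSpace (hEC y hy))).resolve_left (hmin y hy hy1).1
      apply hxy
      refine LinearMap.ext fun z => ?_
      have h1 : σ y z - z ∈ negSpace σ x := by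
        rw [← heq, mem_negSpace, map_sub, hsq y hy, neg_sub]
      have h2' : σ x z - z ∈ negSpace σ y := by
        rw [heq, mem_negSpace, map_sub, hsq x hx, neg_sub]
      rw [mem_negSpace, map_sub] at h1 h2'
      rw [neg_sub] at h1 h2'
      have hd : σ x z - σ y z = -(σ x z - σ y z) := by
        rw [hcom y hy x hx z] at h2'
        have := h1.symm.trans (show σ x (σ y z) - σ x z = σ x (σ y z) - σ x z from rfl)
        have e1 : σ x (σ y z) = σ x z + (z - σ y z) := by rw [← h1]; abel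
        rw [e1] at h2'
        rw [← sub_eq_zero]
        have e2 := sub_eq_zero.2 h2'
        rw [← e2]
        abel
      exact sub_eq_zero.1 (hneg0 _ hd)
  have hprod : σ (e * f) ≠ 1 := by
    intro h
    apply hef
    refine LinearMap.ext fun w => ?_
    have := congrArg (σ e) (LinearMap.congr_fun h w)
    rw [apply_mul, hsq e he, Module.End.one_apply] at this
    exact this.symm
  have hle : ∀ x ∈ E, ∀ y ∈ E, σ x ≠ 1 → σ y ≠ 1 → σ x ≠ σ y →
      negSpace σ y ≤ negSpace σ (x * y) := by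
    intro x hx y hy hx1 hy1 hxy w hw
    rw [mem_negSpace, apply_mul, mem_negSpace.1 hw, map_neg, hdich x hx hx1 y hy hy1 hxy w hw]
  have h1 := ((hmin _ (E.mul_mem he hf) hprod).2.2 _ (hle e he f hf he1 hf1 hef)
    (inv_negSpace (hEC f hf))).resolve_left (hmin f hf hf1).1
  have hfe : negSpace σ (e * f) = negSpace σ (f * e) := by
    ext w
    rw [mem_negSpace, mem_negSpace, apply_mul, apply_mul, hcom e he f hf]
  have h3 := ((hmin _ (E.mul_mem he hf) hprod).2.2 _
    ((hle f hf e he hf1 he1 fun h => hef h.symm).trans hfe.ge)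
    (inv_negSpace (hEC e he))).resolve_left (hmin e he he1).1
  obtain ⟨w, hw, hw0⟩ := Submodule.exists_mem_ne_zero_of_ne_bot (hmin f hf hf1).1
  apply hw0
  refine hneg0 w ?_
  have h4 := hdich e he he1 f hf hf1 hef w hw
  have h5 : w ∈ negSpace σ e := by rw [h3, ← h1]; exact hw
  rw [mem_negSpace, h4] at h5
  exact h5

end Count

end Cfsg.Agent.Lib.BenderOne9.NoOffender
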